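import Mathlib

/-!
# The arithmetic of non-solvable sharply doubly transitive groups (helper5)
-/

set_option autoImplicit false

namespace Cfsg.Agent.Lib.H5.NFI

/-- the case `c = 2`: `(q - 1) (q + 1) = 60 ε N`, `N ∣ q - 1` -/
theorem arith_two {p k q N : ℕ} (hp : p.Prime) (hk : 0 < k) (hq : q = p ^ k)
    (hN : N ∣ q - 1) (h2 : 2 ∣ N) (h3 : ¬ 3 ∣ N)
    (hcard : q ^ 2 - 1 = 60 * N ∨ q ^ 2 - 1 = 120 * N) :
    q ^ 2 - 1 = 60 * N ∧
      ((q ^ 2 = 121 ∧ N = 2) ∨ (q ^ 2 = 841 ∧ N = 14) ∨ (q ^ 2 = 3481 ∧ N = 58)) := by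
  have hq2 : 2 ≤ q := by
    rw [hq]
    calc 2 ≤ p := hp.two_le
      _ = p ^ 1 := (pow_one p).symm
      _ ≤ p ^ k := Nat.pow_le_pow_right hp.pos hk
  have hNpos : 0 < N := Nat.pos_of_dvd_of_pos hN (by omega)
  obtain ⟨m, hm⟩ := hN
  have hfac : q ^ 2 - 1 = (q - 1) * (q + 1) := by
    have h1 : 1 ≤ q := by omega
    obtain ⟨r, rfl⟩ : ∃ r, q = r + 1 := ⟨q - 1, by omega⟩
    simp only [Nat.add_sub_cancel]
    ring_nf
    omega
  -- `m (q + 1) = 60 ε`
  have hmq : m * (q + 1) = 60 ∨ m * (q + 1) = 120 := by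
    rcases hcard with h | h
    · left
      rw [hfac, hm] at h
      have : N * (m * (q + 1)) = N * 60 := by rw [← mul_assoc, h]; ring
      exact Nat.eq_of_mul_eq_mul_left hNpos this
    · right
      rw [hfac, hm] at h
      have : N * (m * (q + 1)) = N * 120 := by rw [← mul_assoc, h]; ring
      exact Nat.eq_of_mul_eq_mul_left hNpos this
  have hdvd : q + 1 ∣ 120 := by
    rcases hmq with h | h
    · exact Dvd.intro_left (2 * m) (by rw [mul_assoc, h]; rfl)
    · exact Dvd.intro_left m h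
  have hle : q ≤ 119 := by
    have := Nat.le_of_dvd (by norm_num) hdvd
    omega
  -- `q` is prime to `60`
  have hcop : Nat.Coprime q 60 := by
    have hq1 : 1 ≤ q ^ 2 := Nat.one_le_pow _ _ (by omega)
    obtain ⟨M, h1⟩ : ∃ M, q ^ 2 = 60 * M + 1 := by
      rcases hcard with h | h
      · exact ⟨N, by omega⟩
      · exact ⟨2 * N, by omega⟩
    have h2' : Nat.Coprime (q ^ 2) 60 := by
      rw [h1]
      simp
    exact Nat.Coprime.coprime_dvd_left (Dvd.intro (q ^ 1) (by ring)) h2'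
  have hq119 : q ≠ 119 := by
    intro h119
    have hpd : p ∣ 119 := by
      rw [← h119, hq]; exact dvd_pow_self p hk.ne'
    have hple : p ≤ 119 := Nat.le_of_dvd (by norm_num) hpd
    have h717 : p = 7 ∨ p = 17 := by
      have h119' : (119 : ℕ) = 7 * 17 := by norm_num
      rw [h119'] at hpd
      rcases (Nat.Prime.dvd_mul hp).mp hpd with h | h
      · left; exact (Nat.prime_dvd_prime_iff_eq hp (by norm_num)).mp h
      · right; exact (Nat.prime_dvd_prime_iff_eq hp (by norm_num)).mp h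
    rcases h717 with rfl | rfl
    · have hk3 : k < 3 := by
        by_contra hge
        have := Nat.pow_le_pow_right (show 1 ≤ 7 by norm_num) (not_lt.mp hge)
        omega
      interval_cases k <;> omega
    · have hk2 : k < 2 := by
        by_contra hge
        have := Nat.pow_le_pow_right (show 1 ≤ 17 by norm_num) (not_lt.mp hge)
        omega
      interval_cases k <;> omega
  interval_cases q <;> first
    | (exfalso; revert hcop; decide)
    | (exfalso; omega)
    | (exfalso; exact hq119 rfl)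
    | skip
  all_goals
    rcases hmq with hmq | hmq
    all_goals first
      | (exfalso; omega)
      | skip
  all_goals
    have hmv : m = 5 ∨ m = 10 ∨ m = 15 ∨ m = 3 ∨ m = 6 ∨ m = 2 ∨ m = 4 ∨ m = 1 := by omega
    rcases hmv with rfl | rfl | rfl | rfl | rfl | rfl | rfl | rfl
    all_goals first
      | (exfalso; omega)
      | (refine ⟨by omega, ?_⟩; omega)

/-- the arithmetic -/
theorem arith_main {p k c N : ℕ} (hp : p.Prime) (hk : 0 < k) (hc : 2 ≤ c)
    (hN : N ∣ p ^ k - 1) (h2 : 2 ∣ N) (h3 : ¬ 3 ∣ N)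
    (hcard : p ^ (k * c) - 1 = 60 * N ∨ p ^ (k * c) - 1 = 120 * N) :
    p ^ (k * c) - 1 = 60 * N ∧
      ((p ^ (k * c) = 121 ∧ N = 2) ∨ (p ^ (k * c) = 841 ∧ N = 14) ∨
        (p ^ (k * c) = 3481 ∧ N = 58)) := by
  obtain ⟨q, hq⟩ : ∃ q, q = p ^ k := ⟨_, rfl⟩
  rw [pow_mul, ← hq] at hcard ⊢
  rw [← hq] at hN
  have hq2 : 2 ≤ q := by
    rw [hq]
    calc 2 ≤ p := hp.two_le
      _ = p ^ 1 := (pow_one p).symm
      _ ≤ p ^ k := Nat.pow_le_pow_right hp.pos hk
  have hNpos : 0 < N := Nat.pos_of_dvd_of_pos hN (by omega)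
  have hNle : N ≤ q - 1 := Nat.le_of_dvd (by omega) hN
  by_cases hc2 : c = 2
  · subst hc2
    exact arith_two hp hk hq hN h2 h3 hcard
  exfalso
  have hc3 : 3 ≤ c := by omega
  -- `q ^ 3 - 1 ≤ q ^ c - 1 ≤ 120 (q - 1)`
  have h1 : q ^ 3 ≤ q ^ c := Nat.pow_le_pow_right (by omega) hc3
  have h2' : q ^ c - 1 ≤ 120 * (q - 1) := by
    rcases hcard with h | h <;> rw [h] <;> nlinarith
  have hfac : q ^ 3 - 1 = (q - 1) * (q ^ 2 + q + 1) := by
    obtain ⟨r, rfl⟩ : ∃ r, q = r + 1 := ⟨q - 1, by omega⟩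
    simp only [Nat.add_sub_cancel]
    have : (r + 1) ^ 3 = r * ((r + 1) ^ 2 + (r + 1) + 1) + 1 := by ring
    omega
  have h3' : (q - 1) * (q ^ 2 + q + 1) ≤ (q - 1) * 120 := by
    rw [← hfac, mul_comm (q - 1) 120]
    have hq3 : 1 ≤ q ^ 3 := Nat.one_le_pow _ _ (by omega)
    have hqc : 1 ≤ q ^ c := Nat.one_le_pow _ _ (by omega)
    omega
  have h4 : q ^ 2 + q + 1 ≤ 120 := Nat.le_of_mul_le_mul_left h3' (by omega)
  have hq10 : q ≤ 10 := by nlinarith
  have hcop : Nat.Coprime q 60 := by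
    have hqc : 1 ≤ q ^ c := Nat.one_le_pow _ _ (by omega)
    obtain ⟨M, h5⟩ : ∃ M, q ^ c = 60 * M + 1 := by
      rcases hcard with h | h
      · exact ⟨N, by omega⟩
      · exact ⟨2 * N, by omega⟩
    have h6 : Nat.Coprime (q ^ c) 60 := by
      rw [h5]
      simp
    exact Nat.Coprime.coprime_dvd_left (dvd_pow_self q (by omega)) h6
  have hq7 : q = 7 := by
    interval_cases q <;> first
      | rfl
      | (exfalso; revert hcop; decide)
  subst hq7
  have hc4 : c < 4 := by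
    by_contra hge
    have := Nat.pow_le_pow_right (show 1 ≤ 7 by norm_num) (not_lt.mp hge)
    omega
  have hc3' : c = 3 := by omega
  subst hc3'
  omega

end Cfsg.Agent.Lib.H5.NFI
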