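import Mathlib

/-!
# Normal non-abelian subgroups of regular linear groups are irreducible (helper5)

`H ≤ GL(V)` (over the prime field) is regular on the non-zero vectors and `C` is a normal
subgroup.  Let `R = 𝔽_p[C] ⊆ End V`.  By transitivity all cyclic submodules `R v`, `v ≠ 0`, have
the same size, hence so have all annihilators `Ann v`.  If `w ∉ R u` then `R u ∩ R w = 0`,
`Ann (u + w) = Ann u ∩ Ann w` and counting gives `Ann u = Ann w`.  So if `R u ≠ V` all non-zero
vectors of `R u` have the same annihilator `I`, a two-sided ideal, and `R / I` is a finite domain,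
hence commutative (Wedderburn); then `C` is abelian.
-/

set_option autoImplicit false
set_option linter.style.haveILetI false

namespace Cfsg.Agent.Lib.H5.NFI

variable {p : ℕ} [hpf : Fact p.Prime] {V : Type*} [AddCommGroup V] [Module (ZMod p) V]
  {H : Subgroup (V ≃ₗ[ZMod p] V)}

/-- the linear maps coming from `C` -/
def gens (C : Subgroup H) : Set (Module.End (ZMod p) V) :=
  {f | ∃ c : H, c ∈ C ∧ f = (((c : H) : V ≃ₗ[ZMod p] V) : V →ₗ[ZMod p] V)}

/-- the enveloping algebra `𝔽_p[C]` inside `End V` -/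
def alg (C : Subgroup H) : Subalgebra (ZMod p) (Module.End (ZMod p) V) :=
  Algebra.adjoin (ZMod p) (gens C)

/-- an element of `H` as an endomorphism -/
abbrev toEnd (h : H) : Module.End (ZMod p) V := (((h : H) : V ≃ₗ[ZMod p] V) : V →ₗ[ZMod p] V)

theorem toEnd_apply (h : H) (v : V) : toEnd h v = ((h : H) : V ≃ₗ[ZMod p] V) v := rfl

theorem toEnd_mul (a b : H) : toEnd (a * b) = toEnd a * toEnd b := by
  ext v; simp [toEnd]

theorem toEnd_one : toEnd (1 : H) = 1 := by
  ext v; simp [toEnd]

theorem toEnd_mul_inv (a : H) : toEnd a * toEnd a⁻¹ = 1 := by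
  rw [← toEnd_mul, mul_inv_cancel, toEnd_one]

theorem toEnd_inv_mul (a : H) : toEnd a⁻¹ * toEnd a = 1 := by
  rw [← toEnd_mul, inv_mul_cancel, toEnd_one]

theorem toEnd_mem_alg {C : Subgroup H} {c : H} (hc : c ∈ C) : toEnd c ∈ alg C :=
  Algebra.subset_adjoin ⟨c, hc, rfl⟩

/-- `R` is stable under conjugation by `H` -/
theorem conj_mem_alg (C : Subgroup H) [hCn : C.Normal] (h : H) {r : Module.End (ZMod p) V}
    (hr : r ∈ alg C) : toEnd h * r * toEnd h⁻¹ ∈ alg C := by
  unfold alg at hr
  induction hr using Algebra.adjoin_induction with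
  | mem x hx =>
    obtain ⟨c, hc, rfl⟩ := hx
    have : toEnd h * toEnd c * toEnd h⁻¹ = toEnd (h * c * h⁻¹) := by
      rw [toEnd_mul, toEnd_mul]
    rw [this]
    exact toEnd_mem_alg (hCn.conj_mem c hc h)
  | algebraMap z =>
    have : toEnd h * (algebraMap (ZMod p) (Module.End (ZMod p) V) z) * toEnd h⁻¹
        = algebraMap (ZMod p) (Module.End (ZMod p) V) z := by
      rw [← Algebra.commutes, mul_assoc, toEnd_mul_inv, mul_one]
    rw [this]
    exact Subalgebra.algebraMap_mem _ z
  | add x y _ _ hx hy =>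
    have : toEnd h * (x + y) * toEnd h⁻¹ = toEnd h * x * toEnd h⁻¹ + toEnd h * y * toEnd h⁻¹ := by
      rw [mul_add, add_mul]
    rw [this]
    exact add_mem hx hy
  | mul x y _ _ hx hy =>
    have : toEnd h * (x * y) * toEnd h⁻¹
        = (toEnd h * x * toEnd h⁻¹) * (toEnd h * y * toEnd h⁻¹) := by
      calc toEnd h * (x * y) * toEnd h⁻¹ = toEnd h * x * 1 * y * toEnd h⁻¹ := by
            rw [mul_one]; simp only [mul_assoc]
        _ = toEnd h * x * (toEnd h⁻¹ * toEnd h) * y * toEnd h⁻¹ := by rw [toEnd_inv_mul]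
        _ = (toEnd h * x * toEnd h⁻¹) * (toEnd h * y * toEnd h⁻¹) := by simp only [mul_assoc]
    rw [this]
    exact mul_mem hx hy

/-- a `C`-invariant subspace is `R`-invariant -/
theorem alg_apply_mem (C : Subgroup H) (W : Submodule (ZMod p) V)
    (hW : ∀ c ∈ C, ∀ v ∈ W, ((c : H) : V ≃ₗ[ZMod p] V) v ∈ W) {r : Module.End (ZMod p) V}
    (hr : r ∈ alg C) : ∀ v ∈ W, r v ∈ W := by
  unfold alg at hr
  induction hr using Algebra.adjoin_induction with
  | mem x hx =>
    obtain ⟨c, hc, rfl⟩ := hx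
    intro v hv
    exact hW c hc v hv
  | algebraMap z =>
    intro v hv
    rw [Module.algebraMap_end_apply]
    exact W.smul_mem z hv
  | add x y _ _ hx hy =>
    intro v hv
    rw [LinearMap.add_apply]
    exact W.add_mem (hx v hv) (hy v hv)
  | mul x y _ _ hx hy =>
    intro v hv
    rw [Module.End.mul_apply]
    exact hx _ (hy v hv)

section main

variable [Finite V] (C : Subgroup H)

instance finite_alg : Finite (alg C) := by
  haveI : Finite (Module.End (ZMod p) V) := Finite.of_injective (fun f => (f : V → V))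
    DFunLike.coe_injective
  exact Subtype.finite

omit [Finite V] in
/-- `|R| = |Ann v| * |R v|` -/
theorem card_alg_eq (v : V) :
    Nat.card (alg C) = Nat.card (Ideal.torsionOf (alg C) V v) *
      Nat.card (Submodule.span (alg C) {v}) := by
  rw [Submodule.card_eq_card_quotient_mul_card (Ideal.torsionOf (alg C) V v),
    Nat.card_congr (Ideal.quotTorsionOfEquivSpanSingleton (alg C) V v).toEquiv]

omit [Finite V] in
theorem smul_def' (r : alg C) (v : V) : r • v = (r : Module.End (ZMod p) V) v := rfl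

theorem card_span_le [hCn : C.Normal] (h : H) (v : V) :
    Nat.card (Submodule.span (alg C) {v}) ≤
      Nat.card (Submodule.span (alg C) {((h : H) : V ≃ₗ[ZMod p] V) v}) := by
  have hmem : ∀ x : Submodule.span (alg C) {v},
      ((h : H) : V ≃ₗ[ZMod p] V) (x : V) ∈
        Submodule.span (alg C) {((h : H) : V ≃ₗ[ZMod p] V) v} := by
    intro x
    obtain ⟨r, hr⟩ := Submodule.mem_span_singleton.mp x.2
    rw [Submodule.mem_span_singleton]
    refine ⟨⟨toEnd h * r * toEnd h⁻¹, conj_mem_alg C h r.2⟩, ?_⟩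
    rw [smul_def'] at hr ⊢
    show (toEnd h * (r : Module.End (ZMod p) V) * toEnd h⁻¹) (((h : H) : V ≃ₗ[ZMod p] V) v) = _
    rw [Module.End.mul_apply, Module.End.mul_apply, toEnd_apply, toEnd_apply, ← hr]
    simp
  apply Nat.card_le_card_of_injective (fun x => (⟨_, hmem x⟩ :
    Submodule.span (alg C) {((h : H) : V ≃ₗ[ZMod p] V) v}))
  intro x y hxy
  have h1 : ((h : H) : V ≃ₗ[ZMod p] V) (x : V) = ((h : H) : V ≃ₗ[ZMod p] V) (y : V) :=
    congrArg Subtype.val hxy
  exact Subtype.ext (((h : H) : V ≃ₗ[ZMod p] V).injective h1)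

theorem card_span_eq [hCn : C.Normal]
    (hreg : ∀ v w : V, v ≠ 0 → w ≠ 0 → ∃! h : H, (h : V ≃ₗ[ZMod p] V) v = w)
    {v w : V} (hv : v ≠ 0) (hw : w ≠ 0) :
    Nat.card (Submodule.span (alg C) {v}) = Nat.card (Submodule.span (alg C) {w}) := by
  obtain ⟨h, hh, -⟩ := hreg v w hv hw
  obtain ⟨h', hh', -⟩ := hreg w v hw hv
  apply le_antisymm
  · have := card_span_le C h v
    rwa [hh] at this
  · have := card_span_le C h' w
    rwa [hh'] at this

theorem card_torsion_eq [hCn : C.Normal]
    (hreg : ∀ v w : V, v ≠ 0 → w ≠ 0 → ∃! h : H, (h : V ≃ₗ[ZMod p] V) v = w)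
    {v w : V} (hv : v ≠ 0) (hw : w ≠ 0) :
    Nat.card (Ideal.torsionOf (alg C) V v) = Nat.card (Ideal.torsionOf (alg C) V w) := by
  have h1 := card_alg_eq C v
  have h2 := card_alg_eq C w
  rw [card_span_eq C hreg hv hw] at h1
  have hpos : 0 < Nat.card (Submodule.span (alg C) {w}) := Nat.card_pos
  exact Nat.eq_of_mul_eq_mul_right hpos (h1.symm.trans h2)

/-- a non-zero vector of `R v` generates `R v` -/
theorem span_eq_of_mem [hCn : C.Normal]
    (hreg : ∀ v w : V, v ≠ 0 → w ≠ 0 → ∃! h : H, (h : V ≃ₗ[ZMod p] V) v = w)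
    {v v' : V} (hv : v ≠ 0) (hv' : v' ≠ 0) (hmem : v' ∈ Submodule.span (alg C) {v}) :
    Submodule.span (alg C) {v'} = Submodule.span (alg C) {v} := by
  have hle : Submodule.span (alg C) {v'} ≤ Submodule.span (alg C) {v} :=
    (Submodule.span_singleton_le_iff_mem _ _).mpr hmem
  have hcard := card_span_eq C hreg hv' hv
  have h1 : (Submodule.span (alg C) {v'}).toAddSubgroup = (Submodule.span (alg C) {v}).toAddSubgroup := by
    apply AddSubgroup.eq_of_le_of_card_ge
    · exact Submodule.toAddSubgroup_mono hle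
    · exact hcard.ge
  exact Submodule.toAddSubgroup_injective h1

/-- vectors in different cyclic submodules have the same annihilator -/
theorem torsion_eq_of_notMem [hCn : C.Normal]
    (hreg : ∀ v w : V, v ≠ 0 → w ≠ 0 → ∃! h : H, (h : V ≃ₗ[ZMod p] V) v = w)
    {u w : V} (hu : u ≠ 0) (hw : w ∉ Submodule.span (alg C) {u}) :
    Ideal.torsionOf (alg C) V u = Ideal.torsionOf (alg C) V w := by
  have hw0 : w ≠ 0 := by
    rintro rfl
    exact hw (Submodule.zero_mem _)
  have huw : u + w ≠ 0 := by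
    intro h0
    apply hw
    have : w = -u := by
      rw [eq_neg_iff_add_eq_zero, add_comm]; exact h0
    rw [this]
    exact Submodule.neg_mem _ (Submodule.mem_span_singleton_self u)
  -- the two cyclic submodules meet trivially
  have hdisj : ∀ x : V, x ∈ Submodule.span (alg C) {u} → x ∈ Submodule.span (alg C) {w} →
      x = 0 := by
    intro x hxu hxw
    by_contra hx0
    have e1 := span_eq_of_mem C hreg hu hx0 hxu
    have e2 := span_eq_of_mem C hreg hw0 hx0 hxw
    apply hw
    rw [← e1, e2]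
    exact Submodule.mem_span_singleton_self w
  have hsub : ∀ r : alg C, r ∈ Ideal.torsionOf (alg C) V (u + w) →
      r ∈ Ideal.torsionOf (alg C) V u ∧ r ∈ Ideal.torsionOf (alg C) V w := by
    intro r hr
    rw [Ideal.mem_torsionOf_iff, smul_add] at hr
    have h1 : r • u ∈ Submodule.span (alg C) {u} :=
      Submodule.smul_mem _ r (Submodule.mem_span_singleton_self u)
    have h2 : r • u ∈ Submodule.span (alg C) {w} := by
      have : r • u = -(r • w) := by rw [eq_neg_iff_add_eq_zero]; exact hr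
      rw [this]
      exact Submodule.neg_mem _ (Submodule.smul_mem _ r (Submodule.mem_span_singleton_self w))
    have h3 := hdisj _ h1 h2
    rw [h3, zero_add] at hr
    exact ⟨(Ideal.mem_torsionOf_iff u r).mpr h3, (Ideal.mem_torsionOf_iff w r).mpr hr⟩
  have hle1 : Ideal.torsionOf (alg C) V (u + w) ≤ Ideal.torsionOf (alg C) V u :=
    fun r hr => (hsub r hr).1
  have hle2 : Ideal.torsionOf (alg C) V (u + w) ≤ Ideal.torsionOf (alg C) V w :=
    fun r hr => (hsub r hr).2
  have eq1 : Ideal.torsionOf (alg C) V (u + w) = Ideal.torsionOf (alg C) V u := by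
    have h1 : (Ideal.torsionOf (alg C) V (u + w)).toAddSubgroup =
        (Ideal.torsionOf (alg C) V u).toAddSubgroup := by
      apply AddSubgroup.eq_of_le_of_card_ge
      · exact Submodule.toAddSubgroup_mono hle1
      · exact (card_torsion_eq C hreg huw hu).ge
    exact Submodule.toAddSubgroup_injective h1
  have eq2 : Ideal.torsionOf (alg C) V (u + w) = Ideal.torsionOf (alg C) V w := by
    have h1 : (Ideal.torsionOf (alg C) V (u + w)).toAddSubgroup =
        (Ideal.torsionOf (alg C) V w).toAddSubgroup := by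
      apply AddSubgroup.eq_of_le_of_card_ge
      · exact Submodule.toAddSubgroup_mono hle2
      · exact (card_torsion_eq C hreg huw hw0).ge
    exact Submodule.toAddSubgroup_injective h1
  rw [← eq1, eq2]

/-- **Irreducibility.**  A normal non-abelian subgroup of a linear group which is regular on the
non-zero vectors is irreducible. -/
theorem irreducible_of_normal_nonabelian [hCn : C.Normal]
    (hreg : ∀ v w : V, v ≠ 0 → w ≠ 0 → ∃! h : H, (h : V ≃ₗ[ZMod p] V) v = w)
    (hCnc : ¬ IsMulCommutative C)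
    (W : Submodule (ZMod p) V)
    (hW : ∀ c ∈ C, ∀ v ∈ W, ((c : H) : V ≃ₗ[ZMod p] V) v ∈ W) : W = ⊥ ∨ W = ⊤ := by
  by_cases hWb : W = ⊥
  · exact Or.inl hWb
  right
  obtain ⟨u, huW, hu⟩ := Submodule.exists_mem_ne_zero_of_ne_bot hWb
  rw [eq_top_iff]
  intro w _
  by_contra hwW
  -- `w ∉ R u`
  have hspanW : ∀ x ∈ Submodule.span (alg C) {u}, x ∈ W := by
    intro x hx
    obtain ⟨r, rfl⟩ := Submodule.mem_span_singleton.mp hx
    exact alg_apply_mem C W hW r.2 u huW
  have hw : w ∉ Submodule.span (alg C) {u} := fun h => hwW (hspanW w h)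
  -- all non-zero vectors of `R u` have the same annihilator
  have hstar : ∀ u₁ ∈ Submodule.span (alg C) {u}, u₁ ≠ 0 →
      Ideal.torsionOf (alg C) V u₁ = Ideal.torsionOf (alg C) V u := by
    intro u₁ hu₁ hu₁0
    have hw₁ : w ∉ Submodule.span (alg C) {u₁} := by
      rw [span_eq_of_mem C hreg hu hu₁0 hu₁]; exact hw
    rw [torsion_eq_of_notMem C hreg hu₁0 hw₁, torsion_eq_of_notMem C hreg hu hw]
  set I := Ideal.torsionOf (alg C) V u with hI
  haveI hItwo : I.IsTwoSided := by
    constructor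
    intro a b ha
    rw [hI, Ideal.mem_torsionOf_iff] at ha ⊢
    rw [mul_smul]
    by_cases hb : b • u = 0
    · rw [hb, smul_zero]
    · have h1 := hstar (b • u) (Submodule.smul_mem _ b (Submodule.mem_span_singleton_self u)) hb
      have h2 : a ∈ Ideal.torsionOf (alg C) V (b • u) := by
        rw [h1]; exact (Ideal.mem_torsionOf_iff u a).mpr ha
      exact (Ideal.mem_torsionOf_iff _ a).mp h2
  -- the quotient is a finite domain
  haveI : Finite ((alg C) ⧸ I) := Quotient.finite _
  haveI : Nontrivial ((alg C) ⧸ I) := by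
    refine ⟨⟨1, 0, ?_⟩⟩
    intro h10
    have h1 : Ideal.Quotient.mk I (1 : alg C) = 0 := h10
    rw [Ideal.Quotient.eq_zero_iff_mem, hI, Ideal.mem_torsionOf_iff, one_smul] at h1
    exact hu h1
  haveI : NoZeroDivisors ((alg C) ⧸ I) := by
    constructor
    intro x y hxy
    obtain ⟨a, rfl⟩ := Ideal.Quotient.mk_surjective x
    obtain ⟨b, rfl⟩ := Ideal.Quotient.mk_surjective y
    rw [← map_mul, Ideal.Quotient.eq_zero_iff_mem, hI, Ideal.mem_torsionOf_iff, mul_smul] at hxy
    by_cases hb : b • u = 0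
    · right
      rw [Ideal.Quotient.eq_zero_iff_mem, hI, Ideal.mem_torsionOf_iff]
      exact hb
    · left
      have h1 := hstar (b • u) (Submodule.smul_mem _ b (Submodule.mem_span_singleton_self u)) hb
      rw [Ideal.Quotient.eq_zero_iff_mem, ← h1, Ideal.mem_torsionOf_iff]
      exact hxy
  haveI : IsDomain ((alg C) ⧸ I) := NoZeroDivisors.to_isDomain _
  have hcomm : ∀ x y : (alg C) ⧸ I, x * y = y * x := by
    classical
    haveI := Fintype.ofFinite ((alg C) ⧸ I)
    letI := Fintype.divisionRingOfIsDomain ((alg C) ⧸ I)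
    letI : Field ((alg C) ⧸ I) := littleWedderburn ((alg C) ⧸ I)
    exact fun x y => mul_comm x y
  -- hence `C` is commutative
  apply hCnc
  refine ⟨⟨fun c₁ c₂ => ?_⟩⟩
  let g₁ : alg C := ⟨toEnd (c₁ : H), toEnd_mem_alg c₁.2⟩
  let g₂ : alg C := ⟨toEnd (c₂ : H), toEnd_mem_alg c₂.2⟩
  have h1 := hcomm (Ideal.Quotient.mk I g₁) (Ideal.Quotient.mk I g₂)
  rw [← map_mul, ← map_mul, ← sub_eq_zero, ← map_sub, Ideal.Quotient.eq_zero_iff_mem, hI,
    Ideal.mem_torsionOf_iff, sub_smul, sub_eq_zero, mul_smul, mul_smul] at h1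
  have h2 : (((c₁ : H) * (c₂ : H) : H) : V ≃ₗ[ZMod p] V) u
      = (((c₂ : H) * (c₁ : H) : H) : V ≃ₗ[ZMod p] V) u := by
    simpa [smul_def', g₁, g₂, toEnd] using h1
  have hne : (((c₂ : H) * (c₁ : H) : H) : V ≃ₗ[ZMod p] V) u ≠ 0 := by
    intro h0
    exact hu ((LinearEquiv.map_eq_zero_iff _).1 h0)
  obtain ⟨h₀, -, huniq⟩ := hreg u _ hu hne
  have h3 : (c₁ : H) * (c₂ : H) = (c₂ : H) * (c₁ : H) := (huniq _ h2).trans (huniq _ rfl).symm
  exact Subtype.ext h3

end main

end Cfsg.Agent.Lib.H5.NFI
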