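import Mathlib
import Cfsg.Agent.Lib.H5.NFI.Irred
import Cfsg.Agent.Lib.H4.NF.FieldK

/-!
# The centralizer of a normal non-abelian subgroup of a regular linear group (helper5)

Since such a subgroup `C` is irreducible, its commutant on `V` is a finite field, and the
centralizer of `C` in `H` embeds into its multiplicative group.
-/

set_option autoImplicit false
set_option linter.style.haveILetI false

namespace Cfsg.Agent.Lib.H5.NFI

open Cfsg.Agent.Lib.H4.NF.Spread Cfsg.Agent.Lib.H4.NF.FieldK Cfsg.Agent.Lib.H4.NF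

variable {p : ℕ} [hpf : Fact p.Prime] {V : Type*} [AddCommGroup V] [Module (ZMod p) V]
  {H : Subgroup (V ≃ₗ[ZMod p] V)}

theorem mem_stab_top (h : H) : h ∈ stab H (⊤ : Submodule (ZMod p) V) := by
  rw [mem_stab]
  intro v
  simp

variable [Finite V]

/-- the whole space is a minimal invariant subspace -/
theorem minInv_top (hreg : ∀ v w : V, v ≠ 0 → w ≠ 0 → ∃! h : H, (h : V ≃ₗ[ZMod p] V) v = w)
    (C : Subgroup H) [hCn : C.Normal] (hCnc : ¬ IsMulCommutative C) :
    MinInv C (⊤ : Submodule (ZMod p) V) := by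
  refine ⟨?_, fun _ _ _ _ => Submodule.mem_top, ?_⟩
  · intro htop
    apply hCnc
    haveI : Subsingleton V := by
      constructor
      intro a b
      have ha : a ∈ (⊤ : Submodule (ZMod p) V) := Submodule.mem_top
      have hb : b ∈ (⊤ : Submodule (ZMod p) V) := Submodule.mem_top
      rw [htop, Submodule.mem_bot] at ha hb
      rw [ha, hb]
    refine ⟨⟨fun c₁ c₂ => ?_⟩⟩
    apply Subtype.ext
    apply Subtype.ext
    apply LinearEquiv.ext
    intro v
    exact Subsingleton.elim _ _
  · intro W' _ hW'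
    exact irreducible_of_normal_nonabelian C hreg hCnc W' hW'

theorem exists_ne_zero (hreg : ∀ v w : V, v ≠ 0 → w ≠ 0 → ∃! h : H, (h : V ≃ₗ[ZMod p] V) v = w)
    (C : Subgroup H) [hCn : C.Normal] (hCnc : ¬ IsMulCommutative C) : ∃ v : V, v ≠ 0 := by
  obtain ⟨v, -, hv⟩ := Submodule.exists_mem_ne_zero_of_ne_bot (minInv_top hreg C hCnc).ne_bot
  exact ⟨v, hv⟩

/-- the centralizer of a normal non-abelian subgroup is commutative -/
theorem commute_of_mem_centralizer
    (hreg : ∀ v w : V, v ≠ 0 → w ≠ 0 → ∃! h : H, (h : V ≃ₗ[ZMod p] V) v = w)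
    (C : Subgroup H) [hCn : C.Normal] (hCnc : ¬ IsMulCommutative C) {a b : H}
    (ha : a ∈ Subgroup.centralizer (C : Set H)) (hb : b ∈ Subgroup.centralizer (C : Set H)) :
    a * b = b * a := by
  have hU := minInv_top hreg C hCnc
  haveI : IsDomain (commutant C (⊤ : Submodule (ZMod p) V)) := isDomain_commutant hU
  haveI : Finite (Module.End (ZMod p) (⊤ : Submodule (ZMod p) V)) := finite_end
  haveI : Finite (commutant C (⊤ : Submodule (ZMod p) V)) := Subtype.finite
  obtain ⟨u₀, hu₀⟩ := exists_ne_zero hreg C hCnc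
  let a' : stab H (⊤ : Submodule (ZMod p) V) := ⟨a, mem_stab_top a⟩
  let b' : stab H (⊤ : Submodule (ZMod p) V) := ⟨b, mem_stab_top b⟩
  have hamem : res ⊤ a' ∈ commutant C (⊤ : Submodule (ZMod p) V) := by
    apply res_mem_commutant
    intro c hc
    rw [Subgroup.mem_centralizer_iff] at ha
    exact ha c hc
  have hbmem : res ⊤ b' ∈ commutant C (⊤ : Submodule (ZMod p) V) := by
    apply res_mem_commutant
    intro c hc
    rw [Subgroup.mem_centralizer_iff] at hb
    exact hb c hc
  have hcomm := FinDomain.comm (⟨_, hamem⟩ : commutant C (⊤ : Submodule (ZMod p) V))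
    ⟨_, hbmem⟩
  have h1 : res ⊤ a' * res ⊤ b' = res ⊤ b' * res ⊤ a' := congrArg Subtype.val hcomm
  rw [← res_mul, ← res_mul] at h1
  have hu₀' : (⟨u₀, Submodule.mem_top⟩ : (⊤ : Submodule (ZMod p) V)) ≠ 0 :=
    fun h0 => hu₀ (congrArg Subtype.val h0)
  have h2 := res_inj hreg (a' * b') (b' * a') ⟨u₀, Submodule.mem_top⟩ hu₀'
    (congrArg (fun e : Module.End (ZMod p) (⊤ : Submodule (ZMod p) V) =>
      e ⟨u₀, Submodule.mem_top⟩) h1)
  exact congrArg (fun x : stab H (⊤ : Submodule (ZMod p) V) => (x : H)) h2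

end Cfsg.Agent.Lib.H5.NFI
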