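import Mathlib
import Cfsg.Agent.Lib.H5.NFI.Cent

/-!
# The field attached to a normal non-abelian subgroup of a regular linear group (helper5)

`|V| = q ^ c` with `c ≥ 2`, `q = p ^ k` the order of the commutant field of `C`, and the order of
`C_H(C)` divides `q - 1`.
-/

set_option autoImplicit false
set_option linter.style.haveILetI false

namespace Cfsg.Agent.Lib.H5.NFI

open Cfsg.Agent.Lib.H4.NF.Spread Cfsg.Agent.Lib.H4.NF.FieldK Cfsg.Agent.Lib.H4.NF

variable {p : ℕ} [hpf : Fact p.Prime] {V : Type*} [AddCommGroup V] [Module (ZMod p) V]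
  {H : Subgroup (V ≃ₗ[ZMod p] V)} [Finite V]

/-- an element of `H` as an element of the stabilizer of the whole space -/
def toStab (a : H) : stab H (⊤ : Submodule (ZMod p) V) := ⟨a, mem_stab_top a⟩

theorem field_data
    (hreg : ∀ v w : V, v ≠ 0 → w ≠ 0 → ∃! h : H, (h : V ≃ₗ[ZMod p] V) v = w)
    (C : Subgroup H) [hCn : C.Normal] (hCnc : ¬ IsMulCommutative C) :
    ∃ k c : ℕ, 0 < k ∧ 2 ≤ c ∧ Nat.card V = p ^ (k * c) ∧
      Nat.card (Subgroup.centralizer (C : Set H)) ∣ p ^ k - 1 := by
  classical
  have hU := minInv_top hreg C hCnc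
  haveI : IsDomain (commutant C (⊤ : Submodule (ZMod p) V)) := isDomain_commutant hU
  haveI : Finite (Module.End (ZMod p) (⊤ : Submodule (ZMod p) V)) := finite_end
  haveI : Finite (commutant C (⊤ : Submodule (ZMod p) V)) := Subtype.finite
  obtain ⟨u₀, hu₀⟩ := exists_ne_zero hreg C hCnc
  have hu₀U : u₀ ∈ (⊤ : Submodule (ZMod p) V) := Submodule.mem_top
  have hu₀' : (⟨u₀, hu₀U⟩ : (⊤ : Submodule (ZMod p) V)) ≠ 0 :=
    fun h0 => hu₀ (congrArg Subtype.val h0)
  set k := Module.finrank (ZMod p) (commutant C (⊤ : Submodule (ZMod p) V)) with hk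
  set c := Module.finrank (commutant C (⊤ : Submodule (ZMod p) V))
    (⊤ : Submodule (ZMod p) V) with hc
  have hcardU : Nat.card (⊤ : Submodule (ZMod p) V) = p ^ (k * c) :=
    FinDomain.card_module (R := commutant C (⊤ : Submodule (ZMod p) V))
      (M := (⊤ : Submodule (ZMod p) V))
  have hcardV : Nat.card V = p ^ (k * c) := by
    rw [← hcardU]
    exact (Nat.card_congr (Submodule.topEquiv (R := ZMod p) (M := V)).toEquiv).symm
  refine ⟨k, c, FinDomain.finrank_pos, ?_, hcardV, ?_⟩
  · have hc0 : c ≠ 0 := by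
      intro h0
      rw [h0, mul_zero, pow_zero] at hcardU
      have : Nontrivial (⊤ : Submodule (ZMod p) V) := ⟨⟨⟨u₀, hu₀U⟩, 0, hu₀'⟩⟩
      have := Finite.one_lt_card_iff_nontrivial.2 this
      omega
    have hc1 : c ≠ 1 := by
      intro h1
      apply hCnc
      obtain ⟨m₀, hm₀⟩ := FinDomain.exists_gen_of_finrank_one
        (R := commutant C (⊤ : Submodule (ZMod p) V)) (M := (⊤ : Submodule (ZMod p) V)) h1
      have hm₀0 : m₀ ≠ 0 := by
        intro h0
        obtain ⟨r, hr⟩ := hm₀ ⟨u₀, hu₀U⟩
        rw [h0, smul_zero] at hr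
        exact hu₀' hr
      refine ⟨⟨fun s t => ?_⟩⟩
      let s' : stab H (⊤ : Submodule (ZMod p) V) := ⟨s, hU.le_stab s.2⟩
      let t' : stab H (⊤ : Submodule (ZMod p) V) := ⟨t, hU.le_stab t.2⟩
      obtain ⟨f, hf⟩ := hm₀ (res ⊤ s' m₀)
      obtain ⟨g, hg⟩ := hm₀ (res ⊤ t' m₀)
      have hfs : ∀ x : (⊤ : Submodule (ZMod p) V), res ⊤ s' (g.1 x) = g.1 (res ⊤ s' x) := by
        intro x
        have := congrArg (fun e : Module.End (ZMod p) (⊤ : Submodule (ZMod p) V) => e x)
          (mem_commutant.mp g.2 s' s.2)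
        simpa using this
      have hgt : ∀ x : (⊤ : Submodule (ZMod p) V), res ⊤ t' (f.1 x) = f.1 (res ⊤ t' x) := by
        intro x
        have := congrArg (fun e : Module.End (ZMod p) (⊤ : Submodule (ZMod p) V) => e x)
          (mem_commutant.mp f.2 t' t.2)
        simpa using this
      have hf' : res ⊤ s' m₀ = f.1 m₀ := hf
      have hg' : res ⊤ t' m₀ = g.1 m₀ := hg
      have hfg : f * g = g * f := FinDomain.comm f g
      have hfg' : ∀ x : (⊤ : Submodule (ZMod p) V), f.1 (g.1 x) = g.1 (f.1 x) := by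
        intro x
        have := congrArg (fun e : commutant C (⊤ : Submodule (ZMod p) V) =>
          (e : Module.End (ZMod p) (⊤ : Submodule (ZMod p) V)) x) hfg
        simpa using this
      have h2 : res ⊤ (s' * t') m₀ = res ⊤ (t' * s') m₀ := by
        rw [res_mul, res_mul, Module.End.mul_apply, Module.End.mul_apply, hg', hfs, hf', hgt,
          hg', hfg']
      have h3 := res_inj hreg _ _ m₀ hm₀0 h2
      have h4 : (s : H) * (t : H) = (t : H) * (s : H) := congrArg Subtype.val h3
      exact Subtype.ext h4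
    omega
  · let f : Subgroup.centralizer (C : Set H) →* commutant C (⊤ : Submodule (ZMod p) V) :=
      { toFun := fun a => ⟨res ⊤ (toStab (a : H)), by
          apply res_mem_commutant
          intro c' hc'
          have := a.2
          rw [Subgroup.mem_centralizer_iff] at this
          exact this c' hc'⟩
        map_one' := by
          apply Subtype.ext
          show res ⊤ (toStab ((1 : Subgroup.centralizer (C : Set H)) : H)) = 1
          exact res_one
        map_mul' := by
          intro a b
          apply Subtype.ext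
          show res ⊤ (toStab ((a * b : Subgroup.centralizer (C : Set H)) : H)) =
            res ⊤ (toStab (a : H)) * res ⊤ (toStab (b : H))
          rw [← res_mul]
          rfl }
    have hf : Function.Injective f := by
      intro a b hab
      have h1 : res ⊤ (toStab (a : H)) = res ⊤ (toStab (b : H)) :=
        congrArg Subtype.val hab
      have h2 := res_inj hreg _ _ ⟨u₀, hu₀U⟩ hu₀'
        (congrArg (fun e : Module.End (ZMod p) (⊤ : Submodule (ZMod p) V) => e ⟨u₀, hu₀U⟩) h1)
      have h3 : (a : H) = (b : H) :=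
        congrArg (fun x : stab H (⊤ : Submodule (ZMod p) V) => (x : H)) h2
      exact Subtype.ext h3
    exact FinDomain.card_dvd_of_injective (p := p) f hf

end Cfsg.Agent.Lib.H5.NFI
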