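import Mathlib
import Cfsg.Agent.Lib.H5.NFI.Field
import Cfsg.Agent.Lib.H5.FC.Nonsolv4
import Cfsg.Agent.Lib.H16.Zas686

/-!
# Non-solvable regular linear groups: the normal `SL₂(5)` (helper5)
-/

set_option autoImplicit false
set_option linter.style.haveILetI false

namespace Cfsg.Agent.Lib.H5.NFI

open Subgroup Cfsg.Agent.Lib.H5.FC Cfsg.Agent.Lib.H4.NF Cfsg.Agent.Lib.H16.Zas686

variable {p : ℕ} [hpf : Fact p.Prime] {V : Type*} [AddCommGroup V] [Module (ZMod p) V]
  {H : Subgroup (V ≃ₗ[ZMod p] V)} [Finite V]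

theorem finite_H (hreg : ∀ v w : V, v ≠ 0 → w ≠ 0 → ∃! h : H, (h : V ≃ₗ[ZMod p] V) v = w)
    (v₀ : V) (hv₀ : v₀ ≠ 0) : Finite H := by
  apply Nat.finite_of_card_ne_zero
  rw [Cfsg.Agent.S0684.card_H H hreg v₀ hv₀]
  have := Finite.one_lt_card_iff_nontrivial.2 (⟨⟨v₀, 0, hv₀⟩⟩ : Nontrivial V)
  omega

omit [Finite V] in
/-- a non-solvable `H` acts on a non-zero space -/
theorem exists_ne_zero_of_not_solvable (hns : ¬ Group.IsSolvable H) : ∃ v : V, v ≠ 0 := by
  by_contra hcon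
  push Not at hcon
  apply hns
  haveI : Subsingleton H := by
    constructor
    intro a b
    apply Subtype.ext
    apply LinearEquiv.ext
    intro v
    rw [hcon v, map_zero, map_zero]
  infer_instance

/-- the normal `SL₂(5)` of a non-solvable regular linear group -/
theorem exists_slData' [hfin : Finite H]
    (hreg : ∀ v w : V, v ≠ 0 → w ≠ 0 → ∃! h : H, (h : V ≃ₗ[ZMod p] V) v = w)
    (hns : ¬ Group.IsSolvable H)
    (hZ : ∀ G : Subgroup (MulAut (Multiplicative V)),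
      (∀ φ ∈ G, φ ≠ 1 → ∀ k : Multiplicative V, φ k = k → k = 1) → _root_.commutator G = ⊤ →
        G ≠ ⊥ → Nonempty (G ≃* Matrix.SpecialLinearGroup (Fin 2) (ZMod 5))) :
    ∃ d : SLData H, _root_.commutator d.S = ⊤ := by
  obtain ⟨v₀, hv₀⟩ := exists_ne_zero_of_not_solvable hns
  have hAbCyc : AbCyc H := fun K hK => Cfsg.Agent.S0684.isCyclic_of_comm H hreg v₀ hv₀ K hK
  obtain ⟨S, hSn, hSne, hSS⟩ := exists_perfect_normal hns
  have hperf : _root_.commutator S = ⊤ := commutator_eq_top_of_self S hSS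
  let ψ : ↥S →* MulAut (Multiplicative V) := toMulAut.comp (H.subtype.comp S.subtype)
  have hψ : Function.Injective ψ := by
    intro a b hab
    have := toMulAut_injective hab
    exact Subtype.ext (Subtype.ext this)
  let e : ↥S ≃* ψ.range := MonoidHom.ofInjective hψ
  have h1 : ∀ φ ∈ ψ.range, φ ≠ 1 → ∀ k : Multiplicative V, φ k = k → k = 1 := by
    rintro _ ⟨n, rfl⟩ hne k hk
    by_contra hk1
    apply hne
    have hv : Multiplicative.toAdd k ≠ 0 := by
      intro h0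
      apply hk1
      have : k = Multiplicative.ofAdd (Multiplicative.toAdd k) := rfl
      rw [this, h0]; rfl
    have hfix : ((n : H) : V ≃ₗ[ZMod p] V) (Multiplicative.toAdd k) = Multiplicative.toAdd k := by
      have : ψ n (Multiplicative.ofAdd (Multiplicative.toAdd k)) =
          Multiplicative.ofAdd (Multiplicative.toAdd k) := hk
      exact Multiplicative.ofAdd.injective this
    obtain ⟨h, -, huniq⟩ := hreg _ _ hv hv
    have e1 : (n : H) = h := huniq _ hfix
    have e2 : (1 : H) = h := huniq _ (by simp)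
    have e3 : n = 1 := Subtype.ext (e1.trans e2.symm)
    rw [e3, map_one]
  have h2 : _root_.commutator ψ.range = ⊤ := commutator_eq_top_of_mulEquiv e hperf
  have h3 : ψ.range ≠ ⊥ := by
    intro hbot
    apply hSne
    rw [eq_bot_iff]
    intro s hs
    have : ψ ⟨s, hs⟩ ∈ ψ.range := ⟨_, rfl⟩
    rw [hbot, mem_bot] at this
    rw [mem_bot]
    have h4 : (⟨s, hs⟩ : S) = 1 := hψ (this.trans (map_one ψ).symm)
    exact congrArg Subtype.val h4
  obtain ⟨e'⟩ := hZ ψ.range h1 h2 h3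
  exact ⟨⟨hAbCyc, S, hSn, e.trans e'⟩, hperf⟩

end Cfsg.Agent.Lib.H5.NFI

namespace Cfsg.Agent.Lib.H5.FC.SLData

open Subgroup Cfsg.Agent.Lib.H5.FC Cfsg.Agent.Lib.H4.NF

variable {G : Type*} [Group G] [Finite G] (d : SLData G)

theorem S_inf_C : d.S ⊓ d.C = zpowers d.z := by
  apply le_antisymm
  · intro x hx
    obtain ⟨h1, h2⟩ := Subgroup.mem_inf.mp hx
    rcases d.mem_S_inf_C h1 h2 with h | h
    · rw [h]; exact one_mem _
    · rw [h]; exact mem_zpowers _
  · rw [zpowers_le]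
    exact Subgroup.mem_inf.mpr ⟨d.z_mem, d.z_mem_C⟩

theorem card_S_inf_C : Nat.card (d.S ⊓ d.C : Subgroup G) = 2 := by
  rw [d.S_inf_C, Nat.card_zpowers, d.orderOf_z]

theorem card_S_sup_C : Nat.card (d.S ⊔ d.C : Subgroup G) = 60 * Nat.card d.C := by
  haveI := d.hn
  have hle : d.C ≤ normalizer (d.S : Set G) := by
    intro x _
    exact (normalizer_eq_top_iff.mpr d.hn) ▸ mem_top x
  have h0 : d.S.relIndex (d.C ⊔ d.S) = d.S.relIndex d.C := Subgroup.relIndex_sup_right d.C d.S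
  have h1 : Nat.card d.S * d.S.relIndex (d.C ⊔ d.S) = Nat.card (d.C ⊔ d.S : Subgroup G) := by
    have := Subgroup.relIndex_mul_relIndex ⊥ d.S (d.C ⊔ d.S) bot_le le_sup_right
    rwa [Subgroup.relIndex_bot_left, Subgroup.relIndex_bot_left] at this
  have h2 : Nat.card (d.S ⊓ d.C : Subgroup G) * (d.S ⊓ d.C).relIndex d.C = Nat.card d.C := by
    have := Subgroup.relIndex_mul_relIndex ⊥ (d.S ⊓ d.C) d.C bot_le inf_le_right
    rwa [Subgroup.relIndex_bot_left, Subgroup.relIndex_bot_left] at this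
  have h3 : (d.S ⊓ d.C).relIndex d.C = d.S.relIndex d.C := Subgroup.inf_relIndex_right d.S d.C
  rw [sup_comm, ← h1, h0, ← h3, d.card_S]
  rw [d.card_S_inf_C] at h2
  omega

theorem card_eq_of_perfect (hperf : _root_.commutator d.S = ⊤) :
    (Nat.card G = 60 * Nat.card d.C ∧ d.S ⊔ d.C = ⊤) ∨ Nat.card G = 120 * Nat.card d.C := by
  have h1 := Subgroup.card_mul_index (d.S ⊔ d.C)
  rw [d.card_S_sup_C] at h1
  rcases d.index_sup hperf with h | h
  · left
    rw [h, mul_one] at h1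
    exact ⟨h1.symm, Subgroup.index_eq_one.mp h⟩
  · right
    rw [h] at h1
    omega

/-- `3` does not divide `|C_G(S)|` -/
theorem three_not_dvd_card_C : ¬ 3 ∣ Nat.card d.C := by
  intro h3
  haveI : Fact (Nat.Prime 3) := ⟨Nat.prime_three⟩
  obtain ⟨m, hm⟩ := exists_prime_orderOf_dvd_card' (G := d.C) 3 h3
  obtain ⟨s, hs⟩ := exists_prime_orderOf_dvd_card' (G := d.S) 3 (by rw [d.card_S]; norm_num)
  have hm' : orderOf (m : G) = 3 := by rw [Subgroup.orderOf_coe]; exact hm
  have hs' : orderOf (s : G) = 3 := by rw [Subgroup.orderOf_coe]; exact hs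
  have hmem : (m : G) ∈ zpowers (s : G) := by
    apply d.hab.mem_zpowers (s : G) (m : G) ((d.mem_C_iff.mp m.2) s s.2)
    rw [hs', ← hm']
    exact pow_orderOf_eq_one _
  have hmS : (m : G) ∈ d.S := (zpowers_le.mpr s.2) hmem
  rcases d.mem_S_inf_C hmS m.2 with h | h
  · rw [h, orderOf_one] at hm'; omega
  · rw [h, d.orderOf_z] at hm'; omega

theorem two_dvd_card_C : 2 ∣ Nat.card d.C := by
  have := Subgroup.card_dvd_of_le (inf_le_right : d.S ⊓ d.C ≤ d.C)
  rwa [d.card_S_inf_C] at this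

end Cfsg.Agent.Lib.H5.FC.SLData
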