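import Mathlib
import Cfsg.Agent.Lib.H5.NFI.SL
import Cfsg.Agent.Lib.H5.NFI.Arith

/-!
# Non-solvable sharply doubly transitive groups (helper5)

A non-solvable linear group over the prime field which is regular on the non-zero vectors is
`SL₂(5) × C_m` with `(|V|, m) = (11², 1), (29², 7), (59², 29)`; modulo Zassenhaus' theorem on
perfect fixed-point-free automorphism groups (hypothesis `hZ`).
-/

set_option autoImplicit false
set_option linter.style.haveILetI false

namespace Cfsg.Agent.Lib.H5.NFI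

open Subgroup Cfsg.Agent.Lib.H5.FC Cfsg.Agent.Lib.H4.NF

/-- a cyclic subgroup is `Z_n` -/
theorem zpowers_mulEquiv {G : Type*} [Group G] (y : G) (n : ℕ) (hn : orderOf y = n) :
    Nonempty (↥(Subgroup.zpowers y) ≃* Multiplicative (ZMod n)) := by
  have h1 : Nat.card ↥(Subgroup.zpowers y) = n := by rw [Nat.card_zpowers, hn]
  have hc : IsCyclic ↥(Subgroup.zpowers y) := inferInstance
  exact ⟨((zmodCyclicMulEquiv hc).symm).trans
    (AddEquiv.toMultiplicative (ZMod.ringEquivCongr h1).toAddEquiv)⟩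

section abstract

variable {G : Type*} [Group G] [Finite G] (d : SLData G)

/-- `G = S` when `|C_G(S)| = 2` and `G = S C_G(S)` -/
theorem equiv_of_card_C_two (hsup : d.S ⊔ d.C = ⊤) (hC : Nat.card d.C = 2) :
    Nonempty (G ≃* Matrix.SpecialLinearGroup (Fin 2) (ZMod 5)) := by
  have hCS : d.C ≤ d.S := by
    have h1 : d.S ⊓ d.C = d.C := by
      apply Subgroup.eq_of_le_of_card_ge inf_le_right
      rw [d.card_S_inf_C, hC]
    rw [← h1]; exact inf_le_left
  have hS : d.S = ⊤ := by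
    rw [← hsup]; exact (sup_eq_left.mpr hCS).symm
  exact ⟨(Subgroup.topEquiv.symm.trans (MulEquiv.subgroupCongr hS.symm)).trans d.e⟩

/-- `G = S × Z_m` when `|C_G(S)| = 2 m`, `m` a prime not dividing `120`, and `G = S C_G(S)` -/
theorem equiv_of_card_C (hcard : Nat.card G = 60 * Nat.card d.C) {m : ℕ} (hm : m.Prime)
    (hm120 : Nat.Coprime 120 m) (hC : Nat.card d.C = 2 * m) :
    Nonempty (G ≃* Matrix.SpecialLinearGroup (Fin 2) (ZMod 5) × Multiplicative (ZMod m)) := by
  haveI : Fact m.Prime := ⟨hm⟩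
  obtain ⟨g, hg⟩ := exists_prime_orderOf_dvd_card' (G := d.C) m (by rw [hC]; exact Dvd.intro_left 2 rfl)
  have hg' : orderOf (g : G) = m := by rw [Subgroup.orderOf_coe]; exact hg
  obtain ⟨eM⟩ := zpowers_mulEquiv (g : G) m hg'
  have hcomm : ∀ (s : d.S) (x : zpowers (g : G)), Commute (d.S.subtype s) ((zpowers (g : G)).subtype x) := by
    intro s x
    have hxC : (x : G) ∈ d.C := (zpowers_le.mpr g.2) x.2
    exact (d.mem_C_iff.mp hxC) s s.2
  let f : d.S × zpowers (g : G) →* G := MonoidHom.noncommCoprod d.S.subtype (zpowers (g : G)).subtype hcomm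
  have hinf : d.S ⊓ zpowers (g : G) = ⊥ := by
    apply (Subgroup.disjoint_of_coprime_natCard _).eq_bot
    rw [d.card_S, Nat.card_zpowers, hg']
    exact hm120
  have hf : Function.Injective f := by
    rw [injective_iff_map_eq_one]
    rintro ⟨s, x⟩ hsx
    have h1 : (s : G) * (x : G) = 1 := by
      have := MonoidHom.noncommCoprod_apply d.S.subtype (zpowers (g : G)).subtype hcomm (s, x)
      rw [← hsx]
      exact this.symm
    have h2 : (s : G) ∈ d.S ⊓ zpowers (g : G) := by
      refine Subgroup.mem_inf.mpr ⟨s.2, ?_⟩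
      have : (s : G) = (x : G)⁻¹ := eq_inv_of_mul_eq_one_left h1
      rw [this]
      exact inv_mem x.2
    rw [hinf, mem_bot] at h2
    have h3 : (x : G) = 1 := by rw [h2, one_mul] at h1; exact h1
    exact Prod.ext (Subtype.ext h2) (Subtype.ext h3)
  have hbij : Function.Bijective f := by
    rw [Nat.bijective_iff_injective_and_card]
    refine ⟨hf, ?_⟩
    rw [Nat.card_prod, d.card_S, Nat.card_zpowers, hg', hcard, hC]
    ring
  exact ⟨(MulEquiv.ofBijective f hbij).symm.trans (MulEquiv.prodCongr d.e eM)⟩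

end abstract

variable {p : ℕ} [hpf : Fact p.Prime] {V : Type*} [AddCommGroup V] [Module (ZMod p) V]
  [Finite V]

/-- the classification, modulo Zassenhaus' theorem -/
theorem nonsolvable_regular (H : Subgroup (V ≃ₗ[ZMod p] V))
    (hreg : ∀ v w : V, v ≠ 0 → w ≠ 0 → ∃! h : H, (h : V ≃ₗ[ZMod p] V) v = w)
    (hns : ¬ Group.IsSolvable H)
    (hZ : ∀ G : Subgroup (MulAut (Multiplicative V)),
      (∀ φ ∈ G, φ ≠ 1 → ∀ k : Multiplicative V, φ k = k → k = 1) → _root_.commutator G = ⊤ →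
        G ≠ ⊥ → Nonempty (G ≃* Matrix.SpecialLinearGroup (Fin 2) (ZMod 5))) :
    (Nat.card V = 121 ∧ Nonempty (H ≃* Matrix.SpecialLinearGroup (Fin 2) (ZMod 5))) ∨
    (Nat.card V = 841 ∧ Nonempty (H ≃* Matrix.SpecialLinearGroup (Fin 2) (ZMod 5) ×
      Multiplicative (ZMod 7))) ∨
    (Nat.card V = 3481 ∧ Nonempty (H ≃* Matrix.SpecialLinearGroup (Fin 2) (ZMod 5) ×
      Multiplicative (ZMod 29))) := by
  obtain ⟨v₀, hv₀⟩ := exists_ne_zero_of_not_solvable hns
  haveI : Finite H := finite_H hreg v₀ hv₀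
  have hcardH := Cfsg.Agent.S0684.card_H H hreg v₀ hv₀
  obtain ⟨d, hperf⟩ := exists_slData' hreg hns hZ
  haveI := d.hn
  have hnc : ¬ IsMulCommutative d.S := by
    intro hc
    apply d.x_y
    have := hc.is_comm.comm (⟨d.x, d.x_mem⟩ : d.S) ⟨d.y, d.y_mem⟩
    exact congrArg Subtype.val this
  obtain ⟨k, c, hk, hc, hcardV, hdiv⟩ := field_data hreg d.S hnc
  have hdiv' : Nat.card d.C ∣ p ^ k - 1 := hdiv
  have hcard : p ^ (k * c) - 1 = 60 * Nat.card d.C ∨ p ^ (k * c) - 1 = 120 * Nat.card d.C := by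
    rw [← hcardV, ← hcardH]
    rcases d.card_eq_of_perfect hperf with h | h
    · exact Or.inl h.1
    · exact Or.inr h
  obtain ⟨h60, hcases⟩ := arith_main hpf.out hk hc hdiv' d.two_dvd_card_C d.three_not_dvd_card_C hcard
  have hcardH60 : Nat.card H = 60 * Nat.card d.C := by rw [hcardH, hcardV]; exact h60
  have hsup : d.S ⊔ d.C = ⊤ := by
    rcases d.card_eq_of_perfect hperf with h | h
    · exact h.2
    · exfalso
      have hpos : 0 < Nat.card d.C := Nat.card_pos
      omega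
  rw [← hcardV] at hcases
  rcases hcases with ⟨hV, hC⟩ | ⟨hV, hC⟩ | ⟨hV, hC⟩
  · exact Or.inl ⟨hV, equiv_of_card_C_two d hsup hC⟩
  · exact Or.inr (Or.inl ⟨hV, equiv_of_card_C d hcardH60 (by norm_num) (by norm_num) hC⟩)
  · exact Or.inr (Or.inr ⟨hV, equiv_of_card_C d hcardH60 (by norm_num) (by norm_num) hC⟩)

end Cfsg.Agent.Lib.H5.NFI
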